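import Mathlib.AlgebraicGeometry.Limits
import Mathlib.AlgebraicGeometry.Morphisms.Affine
import Mathlib.CategoryTheory.Sites.Grothendieck
import Mathlib.CategoryTheory.MorphismProperty.Composition
import Mathlib.CategoryTheory.Extensive
import Mathlib.CategoryTheory.Comma.Over.Basic

/-!
# The topology of finite affine-local `C`-coverings on `S`-schemes
-/

set_option autoImplicit false

universe u

open CategoryTheory CategoryTheory.Limits AlgebraicGeometry TopologicalSpace

namespace Groth.Agent.AffCovTop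

/-- the hypotheses on the class -/
structure Adm (C : MorphismProperty Scheme.{u}) : Prop where
  coprod : ∀ (κ : Type u) [Finite κ] (A B : κ → Scheme.{u}) (f : ∀ j, A j ⟶ B j),
    (∀ j, C (f j)) → C (Limits.Sigma.map f)
  aff : ∀ (U : Scheme.{u}) [IsAffine U] (κ : Type u) [Finite κ] (V : κ → U.Opens),
    (∀ j, IsAffineOpen (V j)) → ⨆ j, V j = ⊤ → C (Limits.Sigma.desc fun j => (V j).ι)

variable {C : MorphismProperty Scheme.{u}}

lemma isIso_desc_punit {A W : Scheme.{u}} (a : A ⟶ W) [IsIso a] :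
    IsIso (Limits.Sigma.desc fun _ : PUnit.{u + 1} => a) :=
  ⟨inv a ≫ Limits.Sigma.ι (fun _ : PUnit.{u + 1} => A) PUnit.unit, by
    refine ⟨?_, by simp⟩
    apply Limits.Sigma.hom_ext
    rintro ⟨⟩
    simp, ⟩

lemma mem_of_isIso [C.IsStableUnderBaseChange] (h : Adm C) {A W : Scheme.{u}} [IsAffine W]
    (a : A ⟶ W) [IsIso a] : C a := by
  let e := Limits.Sigma.desc fun _ : PUnit.{u + 1} => (⊤ : W.Opens).ι
  have hC : C e := h.aff W PUnit (fun _ => ⊤) (fun _ => isAffineOpen_top W) (by simp)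
  have : IsIso (⊤ : W.Opens).ι := by rw [← W.topIso_hom]; infer_instance
  have : IsIso e := isIso_desc_punit (⊤ : W.Opens).ι
  have h1 : C (𝟙 W) := by
    rw [← IsIso.inv_hom_id e]
    exact (C.cancel_left_of_respectsIso (inv e) e).2 hC
  rw [← Category.comp_id a]
  exact (C.cancel_left_of_respectsIso a _).2 h1

variable (C) {S : Scheme.{u}}

/-- finitely many affine members of `R` form a `C`-covering of `W` -/
def Good {X : Over S} (R : Sieve X) {W : Scheme.{u}} (w : W ⟶ X.left) : Prop :=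
  ∃ (κ : Type u) (_ : Finite κ) (V : κ → Over S) (φ : ∀ j, V j ⟶ X) (ψ : ∀ j, (V j).left ⟶ W),
    (∀ j, IsAffine (V j).left) ∧ (∀ j, R.arrows (φ j)) ∧ (∀ j, ψ j ≫ w = (φ j).left) ∧
      C (Limits.Sigma.desc ψ)

variable {C}

lemma good_top [C.IsStableUnderBaseChange] (h : Adm C) {X : Over S} {W : Scheme.{u}} [IsAffine W]
    (w : W ⟶ X.left) : Good C (⊤ : Sieve X) w :=
  ⟨PUnit, inferInstance, fun _ => Over.mk (w ≫ X.hom), fun _ => Over.homMk w, fun _ => 𝟙 W,
    fun _ => ‹IsAffine W›, fun _ => trivial, fun _ => Category.id_comp w,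
    @mem_of_isIso C _ h _ _ _ _ (isIso_desc_punit (𝟙 W))⟩

lemma good_restrict [C.IsStableUnderBaseChange] (h : Adm C) {X X' : Over S} {R : Sieve X}
    {W W' : Scheme.{u}} [IsAffine W] [IsAffine W'] {w : W ⟶ X.left} (hw : Good C R w)
    (f : X' ⟶ X) (w' : W' ⟶ X'.left) (g : W' ⟶ W) (hg : g ≫ w = w' ≫ f.left) :
    Good C (R.pullback f) w' := by
  obtain ⟨κ, _, V, φ, ψ, haff, hR, hcomp, hC⟩ := hw
  have : ∀ j, IsAffine (V j).left := haff
  refine ⟨κ × PUnit.{u + 1}, inferInstance,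
    fun p => Over.mk (pullback.snd (ψ p.1) g ≫ w' ≫ X'.hom),
    fun p => Over.homMk (pullback.snd (ψ p.1) g ≫ w') (Category.assoc _ _ _),
    fun p => pullback.snd (ψ p.1) g,
    fun p => inferInstanceAs (IsAffine (pullback (ψ p.1) g)), fun p => ?_, fun p => rfl, ?_⟩
  · let a : Over.mk (pullback.snd (ψ p.1) g ≫ w' ≫ X'.hom) ⟶ V p.1 :=
      Over.homMk (pullback.fst (ψ p.1) g) (by
        change _ = pullback.snd (ψ p.1) g ≫ w' ≫ X'.hom
        rw [← Over.w (φ p.1), ← hcomp p.1, ← Over.w f]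
        simp only [← Category.assoc, pullback.condition]
        simp only [Category.assoc, reassoc_of% hg])
    rw [Sieve.pullback_apply]
    convert R.downward_closed (hR p.1) a using 1
    ext
    simp only [a, Over.comp_left, Over.homMk_left, ← hcomp p.1, Category.assoc]
    rw [← hg, pullback.condition_assoc]
  · have hsq := FinitaryPreExtensive.isPullback_sigmaDesc ψ (fun _ : PUnit.{u + 1} => g)
    have h1 := C.of_isPullback hsq hC
    have := isIso_desc_punit (𝟙 W')
    refine (?_ : Limits.Sigma.desc (fun p : κ × PUnit.{u + 1} => pullback.snd (ψ p.1) g) =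
      _ ≫ Limits.Sigma.desc fun _ : PUnit.{u + 1} => 𝟙 W') ▸ (C.cancel_right_of_respectsIso _
      (Limits.Sigma.desc fun _ : PUnit.{u + 1} => 𝟙 W')).2 h1
    apply Limits.Sigma.hom_ext
    intro p
    simp

lemma good_comp [C.IsStableUnderComposition] [C.IsStableUnderBaseChange] (h : Adm C) {X : Over S}
    {R : Sieve X} {W : Scheme.{u}} {w : W ⟶ X.left} {κ : Type u} [Finite κ] {A : κ → Scheme.{u}}
    (ψ : ∀ j, A j ⟶ W) (hψ : C (Limits.Sigma.desc ψ)) (hA : ∀ j, Good C R (ψ j ≫ w)) :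
    Good C R w := by
  choose κ' hfin V φ ψ' haff hR hcomp hC using hA
  have := hfin
  refine ⟨Σ j, κ' j, inferInstance, fun p => V p.1 p.2, fun p => φ p.1 p.2,
    fun p => ψ' p.1 p.2 ≫ ψ p.1, fun p => haff p.1 p.2, fun p => hR p.1 p.2,
    fun p => (Category.assoc _ _ _).trans (hcomp p.1 p.2), ?_⟩
  have h1 := h.coprod κ (fun j => ∐ fun k => (V j k).left) A
    (fun j => Limits.Sigma.desc (ψ' j)) hC
  convert (C.cancel_left_of_respectsIso
    (sigmaSigmaIso κ' fun j k => (V j k).left).inv _).2 (C.comp_mem _ _ h1 hψ) using 1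
  apply Limits.Sigma.hom_ext
  intro p
  simp

/-- covering sieves -/
def Cov (C : MorphismProperty Scheme.{u}) {X : Over S} (R : Sieve X) : Prop :=
  ∃ (ι : Type u) (U : ι → X.left.Opens), (∀ i, IsAffineOpen (U i)) ∧ ⨆ i, U i = ⊤ ∧
    ∀ i, Good C R (U i).ι

lemma mem_iSup_of_eq_top {X : Scheme.{u}} {ι : Type u} {U : ι → X.Opens} (hU : ⨆ i, U i = ⊤) (x : X) :
    ∃ i, x ∈ U i := by
  rw [← Opens.mem_iSup, hU]
  trivial

lemma good_id_of_cov [C.IsStableUnderComposition] [C.IsStableUnderBaseChange] (h : Adm C) {X : Over S}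
    [IsAffine X.left] {R : Sieve X} (hR : Cov C R) : Good C R (𝟙 X.left) := by
  obtain ⟨ι, U, hU, hsup, hgood⟩ := hR
  obtain ⟨t, ht⟩ := isCompact_univ.elim_finite_subcover (fun i => (U i : Set X.left))
    (fun i => (U i).isOpen) (fun x _ => Set.mem_iUnion.2 (mem_iSup_of_eq_top hsup x))
  have hcov : ⨆ j : t, U j.1 = ⊤ := by
    rw [eq_top_iff]
    intro x _
    obtain ⟨i, hi, hx⟩ := Set.mem_iUnion₂.1 (ht (Set.mem_univ x))
    exact Opens.mem_iSup.2 ⟨⟨i, hi⟩, hx⟩
  refine good_comp h (fun j : t => (U j.1).ι) (h.aff X.left t (fun j => U j.1) (fun j => hU _) hcov)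
    fun j => ?_
  rw [Category.comp_id]
  exact hgood _

/-- the topology -/
def topology [C.IsStableUnderComposition] [C.IsStableUnderBaseChange] (h : Adm C) (S : Scheme.{u}) :
    GrothendieckTopology (Over S) where
  sieves X := {R | Cov C R}
  top_mem' X := ⟨X.left.affineOpens, fun U => U.1, fun U => U.2, iSup_affineOpens_eq_top X.left,
    fun U => have : IsAffine U.1 := U.2; good_top h _⟩
  pullback_stable' X X' R f hR := by
    obtain ⟨ι, U, hU, hsup, hgood⟩ := hR
    refine ⟨{p : X'.left.Opens × ι // IsAffineOpen p.1 ∧ p.1 ≤ f.left ⁻¹ᵁ U p.2}, fun p => p.1.1,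
      fun p => p.2.1, ?_, fun p => ?_⟩
    · rw [eq_top_iff]
      intro x _
      obtain ⟨i, hi⟩ := mem_iSup_of_eq_top hsup (f.left.base x)
      obtain ⟨V, hV, hxV, hle⟩ := Opens.isBasis_iff_nbhd.1 X'.left.isBasis_affineOpens
        (show x ∈ f.left ⁻¹ᵁ U i from hi)
      exact Opens.mem_iSup.2 ⟨⟨(V, i), hV, hle⟩, hxV⟩
    · have : IsAffine p.1.1 := p.2.1
      have : IsAffine (U p.1.2) := hU _
      exact good_restrict h (hgood p.1.2) f _ (f.left.resLE _ _ p.2.2) (f.left.resLE_comp_ι _)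
  transitive' X R hR R' hR' := by
    obtain ⟨ι, U, hU, hsup, hgood⟩ := hR
    refine ⟨ι, U, hU, hsup, fun i => ?_⟩
    obtain ⟨κ, _, V, φ, ψ, haff, hmem, hcomp, hC⟩ := hgood i
    refine good_comp h ψ hC fun j => ?_
    have : IsAffine (V j).left := haff j
    obtain ⟨κ', _, V', φ', ψ', haff', hmem', hcomp', hC'⟩ := good_id_of_cov h (hR' (hmem j))
    exact ⟨κ', inferInstance, V', fun k => φ' k ≫ φ j, ψ', haff', hmem', fun k => by
      rw [hcomp j, Over.comp_left, ← hcomp' k, Category.comp_id], hC'⟩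

end Groth.Agent.AffCovTop
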