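import Groth.Agent.AffCovTop.Basic
import Mathlib.AlgebraicGeometry.Sites.BigZariski
import Mathlib.CategoryTheory.Sites.Canonical
import Mathlib.CategoryTheory.Sites.Over
import Mathlib.CategoryTheory.Limits.Constructions.Over.Basic

/-!
# Sheaves for the affine-local `C`-topology
-/

set_option autoImplicit false

universe v u

open CategoryTheory CategoryTheory.Limits AlgebraicGeometry TopologicalSpace

namespace Groth.Agent.AffCovTop

variable {C : MorphismProperty Scheme.{u}} {S : Scheme.{u}}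

lemma mem_zariski_over {X : Over S} {R : Sieve X} (𝒰 : X.left.OpenCover)
    (h : ∀ i, R.arrows (Over.homMk (𝒰.f i) : Over.mk (𝒰.f i ≫ X.hom) ⟶ X)) :
    R ∈ Scheme.zariskiTopology.over S X := by
  rw [GrothendieckTopology.mem_over_iff]
  refine Scheme.zariskiTopology.superset_covering ?_ 𝒰.mem_grothendieckTopology
  rw [Sieve.generate_le_iff]
  rintro Z g ⟨i⟩
  exact (Sieve.overEquiv_iff _ _).2 (h i)

/-- opens covering the source give a Zariski covering -/
lemma mem_zariski_over_of_opens {X : Over S} {R : Sieve X} {ι : Type u} (U : ι → X.left.Opens)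
    (hU : ⨆ i, U i = ⊤)
    (h : ∀ i, R.arrows (Over.homMk (U i).ι : Over.mk ((U i).ι ≫ X.hom) ⟶ X)) :
    R ∈ Scheme.zariskiTopology.over S X :=
  mem_zariski_over (X.left.openCoverOfIsOpenCover U hU) h

variable [C.IsStableUnderComposition] [C.IsStableUnderBaseChange]

lemma zariski_le_topology (h : Adm C) :
    Scheme.zariskiTopology.over S ≤ topology h S := by
  intro X R hR
  rw [GrothendieckTopology.mem_over_iff] at hR
  obtain ⟨(𝒰 : X.left.OpenCover), hle⟩ := Scheme.exists_cover_of_mem_grothendieckTopology hR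
  refine ⟨{U : X.left.Opens // IsAffineOpen U ∧ ∃ i, U ≤ (𝒰.f i).opensRange}, fun U => U.1,
    fun U => U.2.1, ?_, fun U => ?_⟩
  · rw [eq_top_iff]
    intro x _
    obtain ⟨i, hi⟩ := 𝒰.exists_eq x
    obtain ⟨_, ⟨U, hU, rfl⟩, hxU, hle⟩ := X.left.isBasis_affineOpens.exists_subset_of_mem_open
      (show x ∈ ((𝒰.f (𝒰.idx x)).opensRange : Set X.left) from 𝒰.covers x)
      (𝒰.f (𝒰.idx x)).opensRange.isOpen
    exact Opens.mem_iSup.2 ⟨⟨U, hU, 𝒰.idx x, hle⟩, hxU⟩
  · have : IsAffine U.1 := U.2.1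
    obtain ⟨i, hi⟩ := U.2.2
    refine ⟨PUnit, inferInstance, fun _ => Over.mk (U.1.ι ≫ X.hom), fun _ => Over.homMk U.1.ι,
      fun _ => 𝟙 _, fun _ => ‹IsAffine U.1›, fun _ => ?_, fun _ => Category.id_comp _,
      @mem_of_isIso C _ h _ _ _ _ (isIso_desc_punit (𝟙 _))⟩
    let a := IsOpenImmersion.lift (𝒰.f i) U.1.ι (by rw [Scheme.Opens.range_ι]; exact hi)
    have ha : a ≫ 𝒰.f i = U.1.ι := IsOpenImmersion.lift_fac _ _ _
    have hm : (Sieve.overEquiv X R).arrows (a ≫ 𝒰.f i) :=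
      (Sieve.overEquiv X R).downward_closed (hle _ _ ⟨i⟩) a
    rw [ha] at hm
    exact (Sieve.overEquiv_iff _ _).1 hm

lemma generate_singleton_mem (h : Adm C)
    (hqc : ∀ {A B : Scheme.{u}} (f : A ⟶ B), C f → QuasiCompact f)
    (hres : ∀ (W X' : Scheme.{u}) [IsAffine W] (f : X' ⟶ W), C f →
      ∀ (κ : Type u) [Finite κ] (A : κ → X'.Opens), (∀ l, IsAffineOpen (A l)) → ⨆ l, A l = ⊤ →
        C (Limits.Sigma.desc fun l => (A l).ι ≫ f))
    {X X' : Over S} (f : X' ⟶ X) (hf : C f.left) :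
    Sieve.generate (Presieve.singleton f) ∈ topology h S X := by
  refine ⟨X.left.affineOpens, fun U => U.1, fun U => U.2, iSup_affineOpens_eq_top X.left,
    fun U => ?_⟩
  have : IsAffine U.1 := U.2
  have hq := hqc _ hf
  have hc : C (f.left ∣_ U.1) := C.of_isPullback (isPullback_morphismRestrict f.left U.1).flip hf
  have : QuasiCompact (f.left ∣_ U.1) := hqc _ hc
  have : CompactSpace ↥((f.left ⁻¹ᵁ U.1 : X'.left.Opens) : Scheme.{u}) :=
    QuasiCompact.compactSpace_of_compactSpace (f.left ∣_ U.1)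
  let Z : Scheme.{u} := (f.left ⁻¹ᵁ U.1 : X'.left.Opens)
  obtain ⟨t, ht⟩ := isCompact_univ.elim_finite_subcover (fun A : Z.affineOpens => (A.1 : Set Z))
    (fun A => A.1.isOpen) (fun x _ => Set.mem_iUnion.2
      (mem_iSup_of_eq_top (iSup_affineOpens_eq_top Z) x))
  have hcov : ⨆ A : t, A.1.1 = ⊤ := by
    rw [eq_top_iff]
    intro x _
    obtain ⟨A, hA, hx⟩ := Set.mem_iUnion₂.1 (ht (Set.mem_univ x))
    exact Opens.mem_iSup.2 ⟨⟨A, hA⟩, hx⟩
  let m : ∀ A : t, (A.1.1 : Scheme.{u}) ⟶ X'.left := fun A => A.1.1.ι ≫ (f.left ⁻¹ᵁ U.1).ι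
  refine ⟨t, inferInstance, fun A => Over.mk (m A ≫ X'.hom),
    fun A => (Over.homMk (m A) : Over.mk (m A ≫ X'.hom) ⟶ X') ≫ f,
    fun A => A.1.1.ι ≫ (f.left ∣_ U.1), fun A => A.1.2,
    fun A => ⟨_, _, f, Presieve.singleton.mk, rfl⟩, fun A => ?_,
    hres U.1 Z (f.left ∣_ U.1) hc t (fun A => A.1.1) (fun A => A.1.2) hcov⟩
  rw [Category.assoc, morphismRestrict_ι, ← Category.assoc]
  rfl

omit [C.IsStableUnderComposition] in
lemma singleton_mem_finest (F : (Over S)ᵒᵖ ⥤ Type v)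
    (hF : ∀ (X X' : Over S) (f : X' ⟶ X), C f.left → Presieve.IsSheafFor F (Presieve.singleton f))
    {X X' : Over S} (f : X' ⟶ X) (hf : C f.left) :
    Sieve.generate (Presieve.singleton f) ∈ Sheaf.finestTopologySingle F X := by
  intro Y g
  have h1 : C (pullback.fst g f).left :=
    C.of_isPullback ((IsPullback.of_hasPullback g f).map (Over.forget S)).flip hf
  have h2 := (Presieve.isSheafFor_iff_generate _).1 (hF _ _ _ h1)
  have : (Sieve.generate (Presieve.singleton f)).pullback g =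
      Sieve.generate (Presieve.singleton (pullback.fst g f)) := by
    ext Z a
    constructor
    · rintro ⟨_, b, _, ⟨⟩, hb⟩
      exact ⟨_, pullback.lift a b hb.symm, _, Presieve.singleton.mk, pullback.lift_fst _ _ _⟩
    · rintro ⟨_, b, _, ⟨⟩, hb⟩
      exact ⟨_, b ≫ pullback.snd g f, f, Presieve.singleton.mk, by
        rw [Category.assoc, ← pullback.condition, ← hb, Category.assoc]⟩
  rw [this]
  exact h2

lemma topology_le_finest (h : Adm C) (F : (Over S)ᵒᵖ ⥤ Type v)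
    (hz : Presieve.IsSheaf (Scheme.zariskiTopology.over S) F)
    (hF : ∀ (X X' : Over S) (f : X' ⟶ X), C f.left → Presieve.IsSheafFor F (Presieve.singleton f)) :
    topology h S ≤ Sheaf.finestTopologySingle F := by
  intro X R hR
  let K := Sheaf.finestTopologySingle F
  have hzK : ∀ {Y : Over S} {Q : Sieve Y}, Q ∈ Scheme.zariskiTopology.over S Y → Q ∈ K Y :=
    fun {Y Q} hQ Z g => hz _ ((Scheme.zariskiTopology.over S).pullback_stable g hQ)
  obtain ⟨ι, U, hU, hsup, hgood⟩ := hR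
  let d : ∀ i, Over.mk ((U i).ι ≫ X.hom) ⟶ X := fun i => Over.homMk (U i).ι
  refine K.transitive (hzK (mem_zariski_over_of_opens (R := Sieve.ofArrows _ d) U hsup
    fun i => Sieve.ofArrows_mk _ d i)) R ?_
  rintro Y g ⟨_, a, _, ⟨i⟩, rfl⟩
  rw [Sieve.pullback_comp]
  refine K.pullback_stable a ?_
  obtain ⟨κ, _, V, φ, ψ, -, hmem, hcomp, hC⟩ := hgood i
  let T : Over S := Over.mk (Limits.Sigma.desc ψ ≫ (U i).ι ≫ X.hom)
  let t : T ⟶ Over.mk ((U i).ι ≫ X.hom) := Over.homMk (Limits.Sigma.desc ψ)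
  refine K.transitive (singleton_mem_finest F hF t hC) _ ?_
  rintro Y g ⟨_, b, _, ⟨⟩, rfl⟩
  rw [Sieve.pullback_comp]
  refine K.pullback_stable b (hzK (mem_zariski_over
    (X := T) (sigmaOpenCover (fun j => (V j).left)) fun j => ?_))
  rw [Sieve.pullback_apply, Sieve.pullback_apply]
  let e : Over.mk (Limits.Sigma.ι (fun j => (V j).left) j ≫ T.hom) ⟶ V j :=
    Over.homMk (𝟙 _) (by
      change 𝟙 _ ≫ (V j).hom = Limits.Sigma.ι (fun j => (V j).left) j ≫ T.hom
      rw [← Over.w (φ j), ← hcomp j]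
      simp [T])
  change R.arrows (((Over.homMk (Limits.Sigma.ι (fun j => (V j).left) j) :
    Over.mk (Limits.Sigma.ι (fun j => (V j).left) j ≫ T.hom) ⟶ T) ≫ t) ≫ d i)
  convert R.downward_closed (hmem j) e using 1
  apply Over.OverMorphism.ext
  simp [e, t, d, ← hcomp j]

theorem isSheaf_iff (h : Adm C)
    (hqc : ∀ {A B : Scheme.{u}} (f : A ⟶ B), C f → QuasiCompact f)
    (hres : ∀ (W X' : Scheme.{u}) [IsAffine W] (f : X' ⟶ W), C f →
      ∀ (κ : Type u) [Finite κ] (A : κ → X'.Opens), (∀ l, IsAffineOpen (A l)) → ⨆ l, A l = ⊤ →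
        C (Limits.Sigma.desc fun l => (A l).ι ≫ f))
    (F : (Over S)ᵒᵖ ⥤ Type v) :
    Presieve.IsSheaf (topology h S) F ↔
      (Presieve.IsSheaf (Scheme.zariskiTopology.over S) F ∧
        ∀ (X X' : Over S) (f : X' ⟶ X), C f.left → Presieve.IsSheafFor F (Presieve.singleton f)) := by
  constructor
  · intro hF
    exact ⟨Presieve.isSheaf_of_le F (zariski_le_topology h) hF, fun X X' f hf =>
      (Presieve.isSheafFor_iff_generate _).2 (hF _ (generate_singleton_mem h hqc hres f hf))⟩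
  · rintro ⟨hz, hF⟩ X R hR
    simpa using topology_le_finest h F hz hF X hR X (𝟙 X)

end Groth.Agent.AffCovTop
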